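import Mathlib

/-!
Orders of commutative subgroups of symmetric and alternating groups: upper bounds.
-/

namespace Cfsg.Agent.AbelAlt

open Equiv Equiv.Perm MulAction

/-- three times the maximum order of a commutative permutation group of degree `n` -/
def cBound (n : ℕ) : ℕ :=
  if n % 3 = 0 then 3 * 3 ^ (n / 3) else if n % 3 = 1 then 4 * 3 ^ (n / 3) else 6 * 3 ^ (n / 3)

lemma cBound_add_three (n : ℕ) : cBound (n + 3) = 3 * cBound n := by
  unfold cBound
  have h1 : (n + 3) % 3 = n % 3 := by omega
  have h2 : (n + 3) / 3 = n / 3 + 1 := by omega
  rw [h1, h2, pow_succ]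
  split_ifs <;> ring

lemma mul_cBound_le : ∀ m : ℕ, 1 ≤ m → ∀ j : ℕ, m * cBound j ≤ cBound (j + m) := by
  intro m
  induction m using Nat.strong_induction_on with
  | _ m ih =>
    intro hm j
    by_cases h5 : 5 ≤ m
    · have h := ih (m - 3) (by omega) (by omega) j
      have e : j + m = (j + (m - 3)) + 3 := by omega
      rw [e, cBound_add_three]
      calc m * cBound j ≤ (3 * (m - 3)) * cBound j := Nat.mul_le_mul_right _ (by omega)
        _ = 3 * ((m - 3) * cBound j) := by ring
        _ ≤ _ := Nat.mul_le_mul_left _ h
    · obtain ⟨q, r, hr, rfl⟩ : ∃ q r, r < 3 ∧ j = r + 3 * q := ⟨j / 3, j % 3, by omega, by omega⟩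
      have key : ∀ a q, cBound (a + 3 * q) = 3 ^ q * cBound a := by
        intro a q
        induction q with
        | zero => simp
        | succ q ihq => rw [show a + 3 * (q + 1) = (a + 3 * q) + 3 by ring, cBound_add_three, ihq, pow_succ]; ring
      rw [show r + 3 * q + m = (r + m) + 3 * q by ring, key, key, mul_left_comm]
      apply Nat.mul_le_mul_left
      interval_cases m <;> interval_cases r <;> simp [cBound]

variable {α : Type} [Fintype α] [DecidableEq α]

set_option linter.unusedSectionVars false

/-- restriction to the complement of an invariant finset -/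
def restrictHom (K : Subgroup (Perm α)) (O : Finset α) (hO : ∀ k ∈ K, ∀ x, x ∈ O → k x ∈ O) :
    K →* Perm {y // y ∉ O} where
  toFun k := (k : Perm α).subtypePerm (fun y => by
    constructor
    · intro h hy
      exact h (hO _ k.2 y hy)
    · intro h hy
      have := hO _ (K.inv_mem k.2) _ hy
      simp at this
      exact h this)
  map_one' := by ext; simp
  map_mul' a b := by ext y; rfl

lemma restrictHom_inj (K : Subgroup (Perm α)) (O : Finset α) (hO : ∀ k ∈ K, ∀ x, x ∈ O → k x ∈ O)
    (h : ∀ k ∈ K, (∀ y, y ∉ O → k y = y) → k = 1) : Function.Injective (restrictHom K O hO) := by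
  rw [injective_iff_map_eq_one]
  intro k hk
  apply Subtype.ext
  apply h _ k.2
  intro y hy
  have := congrArg (fun σ : Perm {y // y ∉ O} => ((σ ⟨y, hy⟩ : {y // y ∉ O}) : α)) hk
  simpa [restrictHom] using this

lemma card_compl_finset (O : Finset α) : Fintype.card {y // y ∉ O} = Fintype.card α - O.card := by
  rw [Fintype.card_subtype_compl, Fintype.card_coe]

lemma orbit_split (A : Subgroup (Perm α)) (hA : IsMulCommutative A) (x : α) :
    ∃ O : Finset α, 1 ≤ O.card ∧ O.card ≤ Fintype.card α ∧
      ∃ K : Subgroup (Perm α), K ≤ A ∧ IsMulCommutative K ∧ (∀ k ∈ K, ∀ y ∈ O, k y = y) ∧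
        (∀ a ∈ A, ∀ y, y ∈ O → a y ∈ O) ∧ Nat.card A = O.card * Nat.card K := by
  classical
  have : Fintype (orbit A x) := Fintype.ofFinite _
  refine ⟨(orbit A x).toFinset, ?_, Finset.card_le_univ _,
    (stabilizer A x).map A.subtype, Subgroup.map_subtype_le _, ?_, ?_, ?_, ?_⟩
  · exact Finset.card_pos.2 ⟨x, by simp⟩
  · have hle : (stabilizer A x).map A.subtype ≤ A := Subgroup.map_subtype_le _
    exact ⟨⟨fun a b => Subtype.ext (by
      have := congrArg Subtype.val (hA.is_comm.comm (⟨a, hle a.2⟩ : A) ⟨b, hle b.2⟩)
      exact this)⟩⟩
  · rintro k ⟨⟨k', hk'⟩, hks, rfl⟩ y hy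
    rw [Set.mem_toFinset] at hy
    obtain ⟨⟨a, ha⟩, rfl⟩ := hy
    have hc : k' * a = a * k' := congrArg Subtype.val (hA.is_comm.comm (⟨k', hk'⟩ : A) ⟨a, ha⟩)
    have hx : k' x = x := hks
    change k' (a x) = a x
    calc k' (a x) = (k' * a) x := rfl
      _ = (a * k') x := by rw [hc]
      _ = a x := by rw [Perm.mul_apply, hx]
  · intro a ha y hy
    rw [Set.mem_toFinset] at hy ⊢
    obtain ⟨b, rfl⟩ := hy
    exact ⟨⟨a, ha⟩ * b, by simp [Subgroup.smul_def, mul_smul]⟩
  · have h := (stabilizer A x).index_mul_card
    rw [index_stabilizer] at h
    rw [← h, Subgroup.card_map_of_injective A.subtype_injective]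
    congr 1
    rw [Set.ncard_eq_toFinset_card']

/-- commutative subgroups of the symmetric group -/
theorem card_le_cBound : ∀ (n : ℕ) (α : Type) [Fintype α] [DecidableEq α] (A : Subgroup (Perm α)),
    IsMulCommutative A → Fintype.card α = n → 3 * Nat.card A ≤ cBound n := by
  intro n
  induction n using Nat.strong_induction_on with
  | _ n ih =>
    intro α _ _ A hA hn
    rcases isEmpty_or_nonempty α with hα | ⟨⟨x⟩⟩
    · have : Subsingleton A := ⟨fun a b => Subtype.ext (Subsingleton.elim _ _)⟩
      rw [Nat.card_of_subsingleton (1 : A)]
      have : n = 0 := by rw [← hn]; exact Fintype.card_eq_zero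
      subst this
      simp [cBound]
    · obtain ⟨O, h1, h2, K, hKA, hK, hfix, hO, hcard⟩ := orbit_split A hA x
      let f := restrictHom K O (fun k hk y hy => by rw [hfix k hk y hy]; exact hy)
      have hf : Function.Injective f := restrictHom_inj K O _ (fun k hk h => Equiv.ext fun y => by
        by_cases hy : y ∈ O
        · exact hfix k hk y hy
        · exact h y hy)
      have hKc : IsMulCommutative f.range := by
        refine ⟨⟨?_⟩⟩
        rintro ⟨_, a, rfl⟩ ⟨_, b, rfl⟩
        apply Subtype.ext
        show f a * f b = f b * f a
        rw [← map_mul, ← map_mul, hK.is_comm.comm]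
      have := ih (n - O.card) (by omega) _ f.range hKc (by rw [card_compl_finset, hn])
      rw [← Nat.card_congr (MonoidHom.ofInjective hf).toEquiv] at this
      calc 3 * Nat.card A = O.card * (3 * Nat.card K) := by rw [hcard]; ring
        _ ≤ O.card * cBound (n - O.card) := Nat.mul_le_mul_left _ this
        _ ≤ cBound (n - O.card + O.card) := mul_cBound_le _ h1 _
        _ = cBound n := by rw [Nat.sub_add_cancel (by omega)]

/-- commutative groups of even permutations of degree `3k+2` -/
theorem card_le_alt : ∀ (k : ℕ) (α : Type) [Fintype α] [DecidableEq α] (A : Subgroup (Perm α)),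
    IsMulCommutative A → (∀ a ∈ A, sign a = 1) → Fintype.card α = 3 * k + 2 →
    9 * Nat.card A ≤ 16 * 3 ^ k := by
  intro k
  induction k using Nat.strong_induction_on with
  | _ k ih =>
    intro α _ _ A hA hsgn hn
    have : Nonempty α := Fintype.card_pos_iff.1 (by omega)
    obtain ⟨x⟩ := this
    obtain ⟨O, h1, h2, K, hKA, hK, hfix, hO, hcard⟩ := orbit_split A hA x
    have hrange : ∀ {M : Type} [Group M] (B : Subgroup (Perm α)), IsMulCommutative B →
        ∀ (f : B →* M), IsMulCommutative f.range := by
      intro M _ B hB f
      refine ⟨⟨?_⟩⟩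
      rintro ⟨_, a, rfl⟩ ⟨_, b, rfl⟩
      apply Subtype.ext
      show f a * f b = f b * f a
      rw [← map_mul, ← map_mul, hB.is_comm.comm]
    by_cases hm2 : O.card = 2
    · -- the whole group embeds in degree `3k`
      let f := restrictHom A O hO
      have hf : Function.Injective f := restrictHom_inj A O _ (fun a ha h => by
        by_contra hne
        have hsupp : a.support ⊆ O := by
          intro y hy
          by_contra hyO
          exact (Perm.mem_support.1 hy) (h y hyO)
        have hle : a.support.card ≤ 2 := hm2 ▸ Finset.card_le_card hsupp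
        have hge : 2 ≤ a.support.card := Perm.two_le_card_support_of_ne_one hne
        have hsw : a.IsSwap := Perm.card_support_eq_two.1 (by omega)
        have := hsgn a ha
        rw [hsw.sign_eq] at this
        exact absurd this (by decide))
      have := card_le_cBound (3 * k) _ f.range (hrange A hA f) (by rw [card_compl_finset, hn, hm2]; omega)
      rw [← Nat.card_congr (MonoidHom.ofInjective hf).toEquiv] at this
      have e : cBound (3 * k) = 3 * 3 ^ k := by
        simp [cBound]
      rw [e] at this
      omega
    · have hKfix : ∀ k ∈ K, ∀ y, y ∈ O → k y ∈ O := fun k hk y hy => by rw [hfix k hk y hy]; exact hy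
      let f := restrictHom K O hKfix
      have hf : Function.Injective f := restrictHom_inj K O _ (fun k hk h => Equiv.ext fun y => by
        by_cases hy : y ∈ O
        · exact hfix k hk y hy
        · exact h y hy)
      have hKcard : Nat.card K = Nat.card f.range := Nat.card_congr (MonoidHom.ofInjective hf).toEquiv
      have hdeg : Fintype.card {y // y ∉ O} = 3 * k + 2 - O.card := by rw [card_compl_finset, hn]
      have h3 := card_le_cBound _ _ f.range (hrange K hK f) hdeg
      rw [← hKcard] at h3
      have hA3 : 3 * Nat.card A ≤ O.card * cBound (3 * k + 2 - O.card) := by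
        rw [hcard]
        calc 3 * (O.card * Nat.card K) = O.card * (3 * Nat.card K) := by ring
          _ ≤ _ := Nat.mul_le_mul_left _ h3
      by_cases hm3 : O.card = 3
      · obtain ⟨k', rfl⟩ : ∃ k', k = k' + 1 := ⟨k - 1, by omega⟩
        have := ih k' (by omega) _ f.range (hrange K hK f) (by
          rintro _ ⟨a, rfl⟩
          have hiff : ∀ y, (a : Perm α) y ∉ O ↔ y ∉ O := fun y => by
            constructor
            · intro h hy
              exact h (hKfix _ a.2 y hy)
            · intro h hy
              have := hfix _ a.2 _ hy
              exact h ((a : Perm α).injective this ▸ hy)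
          exact (Perm.sign_subtypePerm (p := fun y => y ∉ O) (a : Perm α) hiff
            (fun y hy hyO => hy (hfix _ a.2 y hyO))).trans (hsgn _ (hKA a.2))) (by omega)
        rw [← hKcard] at this
        rw [hcard, hm3, pow_succ]
        omega
      · by_cases hm4 : O.card ≤ 4
        · obtain hm | hm : O.card = 1 ∨ O.card = 4 := by omega
          · have e : cBound (3 * k + 2 - O.card) = 4 * 3 ^ k := by
              rw [hm]
              unfold cBound
              rw [if_neg (by omega), if_pos (by omega)]
              congr 2
              omega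
            rw [e, hm] at hA3
            omega
          · obtain ⟨k', rfl⟩ : ∃ k', k = k' + 1 := ⟨k - 1, by omega⟩
            have e : cBound (3 * (k' + 1) + 2 - O.card) = 4 * 3 ^ k' := by
              rw [hm]
              unfold cBound
              rw [if_neg (by omega), if_pos (by omega)]
              congr 2
              omega
            rw [e, hm] at hA3
            rw [pow_succ]
            omega
        · -- orbit of length at least five
          obtain ⟨k', rfl⟩ : ∃ k', k = k' + 1 := ⟨k - 1, by omega⟩
          have h5 : O.card * cBound (3 * (k' + 1) + 2 - O.card) ≤ 15 * 3 ^ k' := by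
            by_cases he : O.card = 5
            · have e : cBound (3 * (k' + 1) + 2 - O.card) = 3 * 3 ^ k' := by
                rw [he]
                unfold cBound
                rw [if_pos (by omega)]
                congr 2
                omega
              rw [e, he]; omega
            by_cases he6 : O.card = 6
            · obtain ⟨k'', rfl⟩ : ∃ k'', k' = k'' + 1 := ⟨k' - 1, by omega⟩
              have e : cBound (3 * (k'' + 1 + 1) + 2 - O.card) = 6 * 3 ^ k'' := by
                rw [he6]
                unfold cBound
                rw [if_neg (by omega), if_neg (by omega)]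
                congr 2
                omega
              rw [e, he6, pow_succ]; omega
            · obtain ⟨k'', rfl⟩ : ∃ k'', k' = k'' + 1 := ⟨k' - 1, by omega⟩
              -- reduce by three twice
              have h7 := mul_cBound_le (O.card - 6) (by omega) (3 * (k'' + 1 + 1) + 2 - O.card)
              have e' : 3 * (k'' + 1 + 1) + 2 - O.card + (O.card - 6) = 3 * k'' + 2 := by omega
              have e : cBound (3 * k'' + 2) = 6 * 3 ^ k'' := by
                unfold cBound
                rw [if_neg (by omega), if_neg (by omega)]
                congr 2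
                omega
              rw [e', e] at h7
              have hle : O.card ≤ 7 * (O.card - 6) := by omega
              calc O.card * cBound (3 * (k'' + 1 + 1) + 2 - O.card)
                  ≤ (7 * (O.card - 6)) * cBound (3 * (k'' + 1 + 1) + 2 - O.card) :=
                    Nat.mul_le_mul_right _ hle
                _ = 7 * ((O.card - 6) * cBound (3 * (k'' + 1 + 1) + 2 - O.card)) := by ring
                _ ≤ 7 * (6 * 3 ^ k'') := Nat.mul_le_mul_left _ h7
                _ ≤ _ := by rw [pow_succ]; omega
          rw [pow_succ]
          omega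

end Cfsg.Agent.AbelAlt
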