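import Mathlib

/-!
Commutative subgroups of alternating groups attaining the maximal order.
-/

namespace Cfsg.Agent.AbelAlt

open Equiv Equiv.Perm

/-- `A_n` has a commutative subgroup of order `c` -/
def HasAb (n c : ℕ) : Prop :=
  ∃ A : Subgroup (alternatingGroup (Fin n)), IsMulCommutative A ∧ Nat.card A = c

lemma hasAb_zero : HasAb 0 1 := ⟨⊥, ⟨⟨fun a b => Subsingleton.elim _ _⟩⟩, Subgroup.card_bot⟩

lemma hasAb_three : HasAb 3 3 := by
  let s : alternatingGroup (Fin 3) := ⟨finRotate 3, Equiv.Perm.mem_alternatingGroup.2 (by decide)⟩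
  refine ⟨Subgroup.zpowers s, inferInstance, ?_⟩
  rw [Nat.card_zpowers]
  exact orderOf_eq_prime (by decide) (by decide)

lemma hasAb_four : HasAb 4 4 := by
  let a : alternatingGroup (Fin 4) := ⟨swap 0 1 * swap 2 3, Equiv.Perm.mem_alternatingGroup.2 (by decide)⟩
  let b : alternatingGroup (Fin 4) := ⟨swap 0 2 * swap 1 3, Equiv.Perm.mem_alternatingGroup.2 (by decide)⟩
  let A : Subgroup (alternatingGroup (Fin 4)) :=
    { carrier := {x | x = 1 ∨ x = a ∨ x = b ∨ x = a * b}
      one_mem' := Or.inl rfl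
      mul_mem' := by
        rintro x y (rfl | rfl | rfl | rfl) (rfl | rfl | rfl | rfl) <;>
          simp only [Set.mem_ofPred_eq] <;> decide
      inv_mem' := by
        rintro x (rfl | rfl | rfl | rfl) <;> simp only [Set.mem_ofPred_eq] <;> decide }
  refine ⟨A, ⟨⟨?_⟩⟩, ?_⟩
  · rintro ⟨x, hx⟩ ⟨y, hy⟩
    apply Subtype.ext
    show x * y = y * x
    rcases hx with rfl | rfl | rfl | rfl <;> rcases hy with rfl | rfl | rfl | rfl <;> decide
  · have h : (A : Set (alternatingGroup (Fin 4))) = ↑({1, a, b, a * b} : Finset (alternatingGroup (Fin 4))) := by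
      ext x
      simp [A]
    calc Nat.card A = (A : Set (alternatingGroup (Fin 4))).ncard := Nat.card_coe_set_eq _
      _ = ({1, a, b, a * b} : Finset (alternatingGroup (Fin 4))).card := by rw [h, Set.ncard_coe_finset]
      _ = 4 := by decide

/-- the product embedding `A_a × A_b → A_{a+b}` -/
def altProd (a b : ℕ) : alternatingGroup (Fin a) × alternatingGroup (Fin b) →* alternatingGroup (Fin (a + b)) where
  toFun x := ⟨(finSumFinEquiv.permCongr) (Equiv.Perm.sumCongr (x.1 : Perm (Fin a)) (x.2 : Perm (Fin b))), by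
    rw [Equiv.Perm.mem_alternatingGroup, Equiv.Perm.sign_permCongr, Equiv.Perm.sign_sumCongr,
      Equiv.Perm.mem_alternatingGroup.1 x.1.2, Equiv.Perm.mem_alternatingGroup.1 x.2.2, one_mul]⟩
  map_one' := by
    apply Subtype.ext
    ext i
    simp
  map_mul' x y := by
    apply Subtype.ext
    ext i
    simp only [Subgroup.coe_mul, Prod.fst_mul, Prod.snd_mul, Equiv.Perm.mul_apply, Equiv.permCongr_apply,
      Equiv.symm_apply_apply]
    rw [← Equiv.Perm.mul_apply (Equiv.Perm.sumCongr (x.1 : Perm (Fin a)) (x.2 : Perm (Fin b))), Equiv.Perm.sumCongr_mul]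

lemma altProd_injective (a b : ℕ) : Function.Injective (altProd a b) := by
  intro x y h
  have h1 := congrArg Subtype.val h
  simp only [altProd, MonoidHom.coe_mk, OneHom.coe_mk] at h1
  have h2 := (finSumFinEquiv.permCongr).injective h1
  have h3 := Equiv.Perm.sumCongrHom_injective (a₁ := ((x.1 : Perm (Fin a)), (x.2 : Perm (Fin b))))
    (a₂ := ((y.1 : Perm (Fin a)), (y.2 : Perm (Fin b)))) h2
  simp only [Prod.mk.injEq] at h3
  exact Prod.ext (Subtype.ext h3.1) (Subtype.ext h3.2)

lemma HasAb.add {a b c d : ℕ} : HasAb a c → HasAb b d → HasAb (a + b) (c * d) := by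
  rintro ⟨A, hA, rfl⟩ ⟨B, hB, rfl⟩
  refine ⟨(A.prod B).map (altProd a b), ⟨⟨?_⟩⟩, ?_⟩
  · rintro ⟨_, x, hx, rfl⟩ ⟨_, y, hy, rfl⟩
    apply Subtype.ext
    show altProd a b x * altProd a b y = altProd a b y * altProd a b x
    rw [← map_mul, ← map_mul]
    congr 1
    exact Prod.ext (congrArg Subtype.val (hA.is_comm.comm ⟨_, hx.1⟩ ⟨_, hy.1⟩))
      (congrArg Subtype.val (hB.is_comm.comm ⟨_, hx.2⟩ ⟨_, hy.2⟩))
  · rw [Subgroup.card_map_of_injective (altProd_injective a b),
      Nat.card_congr (Subgroup.prodEquiv A B).toEquiv, Nat.card_prod]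

lemma hasAb_mul_three : ∀ k, HasAb (3 * k) (3 ^ k)
  | 0 => hasAb_zero
  | k + 1 => by
    have := (hasAb_mul_three k).add hasAb_three
    rwa [← pow_succ] at this

end Cfsg.Agent.AbelAlt
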